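import Cfsg.Agent.Lib.GlaubAbove.Central
import Cfsg.Agent.Lib.Glauberman.Conj
import Cfsg.Agent.Lib.CoprimeExt.Gallagher

/-!
# Invariant characters above an invariant character, coprime index
-/

set_option autoImplicit false
set_option linter.all false

namespace Cfsg.Agent.GlaubAbove

open Cfsg.Agent

universe u

/-- The case of a solvable quotient of the small section. -/
theorem above_solvable_section {Γ : Type u} [Group Γ] [Fintype Γ] (G N : Subgroup Γ) [G.Normal]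
    [N.Normal] [Fintype G] [Fintype N] (hNG : N ≤ G) (hcop : G.index.Coprime (N.relIndex G))
    (hsolv : Group.IsSolvable (G ⧸ N.subgroupOf G)) (θ : Cfsg.IrrCharacter N)
    (hinv : ∀ (x : Γ) (n : N), (θ : N → ℂ) (MulAut.conjNormal x n) = (θ : N → ℂ) n) :
    ∃ χ : Cfsg.IrrCharacter G,
      Cfsg.classInner (fun n : N => (χ : G → ℂ) ⟨n, hNG n.2⟩) (θ : N → ℂ) ≠ 0 ∧
      ∀ (x : Γ) (g : G), (χ : G → ℂ) (MulAut.conjNormal x g) = (χ : G → ℂ) g := by
  classical
  let G' : Subgroup (Γ ⧸ N) := G.map (QuotientGroup.mk' N)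
  haveI : G'.Normal := Subgroup.Normal.map inferInstance _ (QuotientGroup.mk'_surjective _)
  have hcomap : G'.comap (QuotientGroup.mk' N) = G := by
    rw [Subgroup.comap_map_eq, QuotientGroup.ker_mk', sup_eq_left.mpr hNG]
  have hidx : G'.index = G.index := by
    rw [← Subgroup.index_comap_of_surjective G' (QuotientGroup.mk'_surjective N), hcomap]
  have hcard : Nat.card G' = N.relIndex G := by
    have h1 := G'.card_mul_index
    rw [hidx, ← Subgroup.index_eq_card, ← Subgroup.relIndex_mul_index hNG] at h1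
    exact Nat.eq_of_mul_eq_mul_right (Nat.pos_of_ne_zero G.index_ne_zero_of_finite) h1
  obtain ⟨Q, hQ⟩ := Subgroup.exists_right_complement'_of_coprime (N := G')
    (by rw [hidx, hcard]; exact hcop.symm)
  let A : Subgroup Γ := Q.comap (QuotientGroup.mk' N)
  have hNA : N ≤ A := fun n hn => by
    show QuotientGroup.mk' N n ∈ Q
    rw [(QuotientGroup.mk'_apply N n), (QuotientGroup.eq_one_iff n).mpr hn]; exact one_mem _
  have hrel : N.relIndex A = G.index := by
    have h1 := Subgroup.relIndex_comap (⊥ : Subgroup (Γ ⧸ N)) (QuotientGroup.mk' N) A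
    rw [MonoidHom.comap_bot, QuotientGroup.ker_mk',
      Subgroup.map_comap_eq_self_of_surjective (QuotientGroup.mk'_surjective N),
      Subgroup.relIndex_bot_left] at h1
    rw [h1, ← hidx, hQ.symm.index_eq_card]
  let φ : A →* MulAut G := (MulAut.conjNormal (H := G)).comp A.subtype
  let A0 : Subgroup A := N.subgroupOf A
  let e : N.subgroupOf G ≃* N := Subgroup.subgroupOfEquivOfLe hNG
  haveI : Fintype (N.subgroupOf G) := Fintype.ofFinite _
  have hN : ∀ a, ∀ x ∈ N.subgroupOf G, φ a x ∈ N.subgroupOf G := fun a x hx => by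
    show ((MulAut.conjNormal (a : Γ) x : G) : Γ) ∈ N
    rw [MulAut.conjNormal_apply]
    exact Subgroup.Normal.conj_mem (inferInstance : N.Normal) ((x : G) : Γ) hx (a : Γ)
  obtain ⟨χ, hχ, hne⟩ := Glauberman.exists_inv_above φ A0 (N.subgroupOf G) hN
    (fun a ha => ⟨⟨(a : Γ), hNG ha⟩, ha, fun g => Subtype.ext (MulAut.conjNormal_apply _ _)⟩)
    hsolv
    (by
      show (N.relIndex G).Coprime _
      rw [← Subgroup.index_eq_card]
      show (N.relIndex G).Coprime (N.relIndex A)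
      rw [hrel]
      exact hcop.symm)
    (Glauberman.compIrr e θ)
    (fun a x => by
      show (θ : N → ℂ) _ = (θ : N → ℂ) _
      refine Eq.trans (congrArg (θ : N → ℂ) (Subtype.ext ?_)) (hinv a (e x))
      show ((MulAut.conjNormal (a : Γ) ((x : G)) : G) : Γ) = (MulAut.conjNormal (a : Γ) (e x) : N).1
      rw [MulAut.conjNormal_apply, MulAut.conjNormal_apply]
      rfl)
  refine ⟨χ, ?_, ?_⟩
  · rw [← Glauberman.classInner_comp_equiv e]
    exact hne
  · intro x g
    have hx : QuotientGroup.mk' N x ∈ G' ⊔ Q := by rw [hQ.sup_eq_top]; trivial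
    rw [← SetLike.mem_coe, Subgroup.normal_mul] at hx
    obtain ⟨_, ⟨y, hy, rfl⟩, q, hq, hyq⟩ := hx
    have ha : y⁻¹ * x ∈ A := by
      show QuotientGroup.mk' N (y⁻¹ * x) ∈ Q
      rw [map_mul, map_inv, ← hyq, inv_mul_cancel_left]; exact hq
    have h1 : MulAut.conjNormal x g =
        (⟨y, hy⟩ : G) * φ ⟨_, ha⟩ g * (⟨y, hy⟩ : G)⁻¹ := Subtype.ext (by
      simp [φ, MulAut.conjNormal_apply, mul_assoc])
    rw [h1]
    exact (CT.isClassFunction_isConj (CT.isClassFunction_of_isIrr χ.2)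
      (isConj_iff.mpr ⟨⟨y, hy⟩, rfl⟩)).symm.trans (hχ ⟨_, ha⟩ g)

/-- The case of a solvable group of operators. -/
theorem above_solvable_index {Γ : Type u} [Group Γ] [Fintype Γ] (G N : Subgroup Γ) [G.Normal]
    [N.Normal] [Fintype G] [Fintype N] (hNG : N ≤ G) (hcop : G.index.Coprime (N.relIndex G))
    (hsolv : Group.IsSolvable (Γ ⧸ G)) (θ : Cfsg.IrrCharacter N)
    (hinv : ∀ (x : Γ) (n : N), (θ : N → ℂ) (MulAut.conjNormal x n) = (θ : N → ℂ) n) :
    ∃ χ : Cfsg.IrrCharacter G,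
      Cfsg.classInner (fun n : N => (χ : G → ℂ) ⟨n, hNG n.2⟩) (θ : N → ℂ) ≠ 0 ∧
      ∀ (x : Γ) (g : G), (χ : G → ℂ) (MulAut.conjNormal x g) = (χ : G → ℂ) g := by
  classical
  obtain ⟨d, τ, hirr, hτ⟩ := θ.2
  haveI := hirr
  have hτinv : ∀ x : Γ, CT.conjFun N x τ.character = τ.character := by
    intro x
    rw [hτ, CT.conjFun_eq_comp]
    exact funext fun n => hinv x n
  obtain ⟨P, hP⟩ := CT.exists_projExt (N := N) τ hτinv
  haveI := ((CT.isIrreducible_iff τ).mp hirr).1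
  have hd : 0 < d := by simpa using CT.finrank_pos_of_irreducible τ
  let m := Nat.card N
  have hm : 0 < m := Nat.card_pos
  -- the covering group
  let Γh : Subgroup (Γ × (Module.End ℂ (Fin d → ℂ))ˣ) :=
    { carrier := {x | (∀ n : N, x.2 * τ.asGroupHom n = τ.asGroupHom (MulAut.conjNormal x.1 n) * x.2) ∧
        LinearMap.det (x.2 : Module.End ℂ (Fin d → ℂ)) ^ m = 1}
      one_mem' := ⟨fun n => by simp, by simp⟩
      mul_mem' := fun {x y} hx hy => ⟨fun n => by
        rw [Prod.snd_mul, Prod.fst_mul, mul_assoc, hy.1, ← mul_assoc, hx.1, map_mul,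
          MulAut.mul_apply, mul_assoc], by
        rw [Prod.snd_mul, Units.val_mul, map_mul, mul_pow, hx.2, hy.2, one_mul]⟩
      inv_mem' := fun {x} hx => ⟨fun n => by
        have h1 := hx.1 (MulAut.conjNormal x.1⁻¹ n)
        rw [← MulAut.mul_apply, ← map_mul, mul_inv_cancel, map_one, MulAut.one_apply] at h1
        rw [Prod.snd_inv, Prod.fst_inv, inv_mul_eq_iff_eq_mul, ← mul_assoc, h1,
          mul_inv_cancel_right], by
        have h1 : LinearMap.det ((x.2⁻¹ : (Module.End ℂ (Fin d → ℂ))ˣ) : Module.End ℂ (Fin d → ℂ)) *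
            LinearMap.det (x.2 : Module.End ℂ (Fin d → ℂ)) = 1 := by
          rw [← map_mul, Units.inv_mul, map_one]
        have h2 := congrArg (fun t => t ^ m) h1
        simp only [mul_pow, hx.2, mul_one, one_pow] at h2
        rw [Prod.snd_inv]
        exact h2⟩ }
  let π : Γh →* Γ := (MonoidHom.fst _ _).comp Γh.subtype
  have hπ : Function.Surjective π := by
    intro g
    have hdet : LinearMap.det (P g : Module.End ℂ (Fin d → ℂ)) ≠ 0 :=
      IsUnit.ne_zero ((P g).isUnit.map LinearMap.det)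
    obtain ⟨c, hc0, hc⟩ := CT.det_mul_root _ hdet
    refine ⟨⟨(g, CT.scU (Units.mk0 c hc0) * P g), fun n => ?_, ?_⟩, rfl⟩
    · show CT.scU (Units.mk0 c hc0) * P g * τ.asGroupHom n = _
      rw [mul_assoc, hP.2.2 g n, ← mul_assoc, CT.scU_comm, mul_assoc]
      rw [show (⟨g * n * g⁻¹, _⟩ : N) = MulAut.conjNormal g n from
        Subtype.ext (MulAut.conjNormal_apply g n).symm]
    · show LinearMap.det ((CT.scU (Units.mk0 c hc0) * P g : (Module.End ℂ (Fin d → ℂ))ˣ) :
        Module.End ℂ (Fin d → ℂ)) ^ m = 1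
      rw [Units.val_mul, CT.coe_scU, Units.val_mk0, smul_mul_assoc, ← Module.End.one_eq_id, one_mul, hc,
        one_pow]
  let Z : Subgroup Γh := π.ker
  have hscalar : ∀ z : Z, ∃ c : ℂˣ, ((z : Γh) : Γ × (Module.End ℂ (Fin d → ℂ))ˣ).2 = CT.scU c := by
    intro z
    refine CT.unit_scalar (τ := τ) _ fun n => ?_
    rw [(z : Γh).2.1 n]
    congr 2
    have hz1 : ((z : Γh) : Γ × (Module.End ℂ (Fin d → ℂ))ˣ).1 = 1 := z.2
    rw [hz1, map_one, MulAut.one_apply]
  choose sc hsc using hscalar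
  let lam0 : Z →* ℂˣ :=
    { toFun := sc
      map_one' := CT.scU_injective (W := Fin d → ℂ) (by rw [← hsc, CT.scU_one]; rfl)
      map_mul' := fun x y => CT.scU_injective (W := Fin d → ℂ) (by
        rw [CT.scU_mul, ← hsc, ← hsc, ← hsc]; rfl) }
  have hlam0 : ∀ z : Z, ((z : Γh) : Γ × (Module.End ℂ (Fin d → ℂ))ˣ).2 = CT.scU (lam0 z) := hsc
  haveI : NeZero (d * m) := ⟨(Nat.mul_pos hd hm).ne'⟩
  have hroot : ∀ z : Z, lam0 z ∈ rootsOfUnity (d * m) ℂ := by
    intro z
    rw [mem_rootsOfUnity']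
    have h := (z : Γh).2.2
    rw [hlam0, CT.coe_scU, LinearMap.det_smul, LinearMap.det_id, mul_one, Module.finrank_fin_fun,
      ← pow_mul] at h
    exact h
  haveI : Finite Z := Finite.of_injective (fun z => (⟨lam0 z, hroot z⟩ : rootsOfUnity (d * m) ℂ))
    fun x y h => by
      have h' : lam0 x = lam0 y := congrArg Subtype.val h
      refine Subtype.ext (Subtype.ext (Prod.ext ?_ ?_))
      · exact (show π (x : Γh) = 1 from x.2).trans (show π (y : Γh) = 1 from y.2).symm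
      · rw [hlam0, hlam0, h']
  haveI : Finite (Γh ⧸ Z) :=
    Finite.of_equiv Γ (QuotientGroup.quotientKerEquivOfSurjective π hπ).symm.toEquiv
  haveI : Finite Γh := Finite.of_equiv _ (Subgroup.groupEquivQuotientProdSubgroup (s := Z)).symm
  haveI : Fintype Γh := Fintype.ofFinite _
  -- the copy of the normal subgroup
  let ι : N →* Γh :=
    { toFun := fun n => ⟨((n : Γ), τ.asGroupHom n), fun k => by
          show τ.asGroupHom n * τ.asGroupHom k = _ * τ.asGroupHom n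
          rw [← map_mul, ← map_mul]
          congr 1
          refine Subtype.ext ?_
          simp [MulAut.conjNormal_apply, mul_assoc],
        by
          show LinearMap.det (τ n) ^ m = 1
          rw [← map_pow, ← map_pow, pow_card_eq_one', map_one, map_one]⟩
      map_one' := Subtype.ext (Prod.ext rfl (map_one _))
      map_mul' := fun a b => Subtype.ext (Prod.ext rfl (map_mul _ _ _)) }
  let Nh : Subgroup Γh := ι.range
  haveI : Nh.Normal := ⟨by
    rintro _ ⟨n, rfl⟩ g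
    refine ⟨MulAut.conjNormal ((g : Γ × (Module.End ℂ (Fin d → ℂ))ˣ).1) n,
      Subtype.ext (Prod.ext (MulAut.conjNormal_apply _ _) ?_)⟩
    show τ.asGroupHom _ = (g : Γ × (Module.End ℂ (Fin d → ℂ))ˣ).2 * τ.asGroupHom n *
      ((g : Γ × (Module.End ℂ (Fin d → ℂ))ˣ).2)⁻¹
    rw [g.2.1, mul_inv_cancel_right]⟩
  let Gh : Subgroup Γh := G.comap π
  haveI : Gh.Normal := Subgroup.Normal.comap inferInstance π
  have hNhG : Nh ≤ Gh := by
    rintro _ ⟨n, rfl⟩
    exact hNG n.2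
  have hZG : Z ≤ Gh := fun z hz => by
    show π z ∈ G
    rw [MonoidHom.mem_ker.mp hz]; exact one_mem _
  have hZcent : ∀ z ∈ Z, ∀ g : Γh, g * z = z * g := by
    intro z hz g
    refine Subtype.ext (Prod.ext ?_ ?_)
    · show _ * π z = π z * _
      rw [MonoidHom.mem_ker.mp hz, mul_one, one_mul]
    · show (g : Γ × (Module.End ℂ (Fin d → ℂ))ˣ).2 * (z : Γ × (Module.End ℂ (Fin d → ℂ))ˣ).2 = _
      rw [hlam0 ⟨z, hz⟩, ← CT.scU_comm]
      show _ = (z : Γ × (Module.End ℂ (Fin d → ℂ))ˣ).2 * _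
      rw [hlam0 ⟨z, hz⟩]
  -- the quotient
  let B := Γh ⧸ Nh
  let mk : Γh →* B := QuotientGroup.mk' Nh
  have hmk : Function.Surjective mk := QuotientGroup.mk'_surjective Nh
  let H0 : Subgroup B := Gh.map mk
  haveI : H0.Normal := Subgroup.Normal.map inferInstance _ hmk
  haveI : Fintype B := Fintype.ofFinite _
  haveI : Fintype H0 := Fintype.ofFinite _
  let f : Z →* B := mk.comp Z.subtype
  have hf : Function.Injective f := by
    rw [injective_iff_map_eq_one]
    rintro ⟨z, hz⟩ h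
    obtain ⟨n, rfl⟩ := (QuotientGroup.eq_one_iff z).mp h
    have : n = 1 := Subtype.ext (MonoidHom.mem_ker.mp hz)
    subst this
    exact Subtype.ext (map_one ι)
  let Zb : Subgroup B := f.range
  have hH0comap : H0.comap mk = Gh := by
    rw [Subgroup.comap_map_eq, QuotientGroup.ker_mk', sup_eq_left.mpr hNhG]
  have hH0idx : H0.index = G.index := by
    rw [← Subgroup.index_comap_of_surjective H0 hmk, hH0comap,
      Subgroup.index_comap_of_surjective G hπ]
  have hZbcomap : Zb.comap mk = N.comap π := by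
    ext x
    constructor
    · rintro ⟨⟨z, hz⟩, hzx⟩
      obtain ⟨n, hn⟩ := QuotientGroup.eq.mp hzx
      show π x ∈ N
      have : π (ι n) = π z⁻¹ * π x := by rw [← map_mul, hn]; rfl
      rw [map_inv, MonoidHom.mem_ker.mp hz, inv_one, one_mul] at this
      rw [← this]
      exact n.2
    · intro hx
      refine ⟨⟨x * (ι ⟨π x, hx⟩)⁻¹, ?_⟩, ?_⟩
      · rw [MonoidHom.mem_ker, map_mul, map_inv]
        show π x * (π x)⁻¹ = 1
        rw [mul_inv_cancel]
      · show mk (x * (ι ⟨π x, hx⟩)⁻¹) = mk x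
        rw [map_mul, map_inv,
          show mk (ι ⟨π x, hx⟩) = 1 from (QuotientGroup.eq_one_iff _).mpr ⟨_, rfl⟩, inv_one, mul_one]
  have hrel : Zb.relIndex H0 = N.relIndex G := by
    rw [← Subgroup.relIndex_comap Zb mk Gh, hZbcomap, Subgroup.relIndex_comap N π Gh,
      Subgroup.map_comap_eq_self_of_surjective hπ]
  have hsolvB : Group.IsSolvable (B ⧸ H0) := by
    let g : Γh →* Γ ⧸ G := (QuotientGroup.mk' G).comp π
    have hg : Nh ≤ g.ker := fun x hx => (QuotientGroup.eq_one_iff _).mpr (hNhG hx)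
    have hH0g : H0 ≤ (QuotientGroup.lift Nh g hg).ker := by
      rintro _ ⟨x, hx, rfl⟩
      exact (QuotientGroup.eq_one_iff (π x)).mpr hx
    haveI := hsolv
    refine Group.isSolvable_of_isSolvable_injective
      (f := QuotientGroup.lift H0 (QuotientGroup.lift Nh g hg) hH0g) ?_
    rw [injective_iff_map_eq_one]
    intro y hy
    obtain ⟨y, rfl⟩ := QuotientGroup.mk_surjective y
    obtain ⟨x, rfl⟩ := hmk y
    exact (QuotientGroup.eq_one_iff _).mpr
      (Subgroup.mem_map_of_mem mk ((QuotientGroup.eq_one_iff (π x)).mp hy))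
  let eZ : Z ≃* Zb := MonoidHom.ofInjective hf
  obtain ⟨η, hηi, hηs⟩ := exists_inv_central H0 Zb
    (by rintro _ ⟨z, rfl⟩; exact Subgroup.mem_map_of_mem mk (hZG z.2))
    (by
      rintro _ ⟨z, rfl⟩ b
      obtain ⟨x, rfl⟩ := hmk b
      show mk x * mk (z : Γh) = mk (z : Γh) * mk x
      rw [← map_mul, ← map_mul, hZcent _ z.2 x])
    (by rw [hH0idx, hrel]; exact hcop) hsolvB (lam0⁻¹.comp eZ.symm.toMonoidHom)
  -- the character of the covering group
  haveI : Fintype Gh := Fintype.ofFinite _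
  let ρ : Representation ℂ Γh (Fin d → ℂ) :=
    (Units.coeHom _).comp ((MonoidHom.snd _ _).comp Γh.subtype)
  let ρ1 : Representation ℂ Gh (Fin d → ℂ) := ρ.comp Gh.subtype
  have hirrG : ρ1.IsIrreducible := by
    obtain ⟨hV, hW⟩ := (CT.isIrreducible_iff τ).mp hirr
    exact (CT.isIrreducible_iff _).mpr ⟨hV, fun W h => hW W fun n v hv => h ⟨ι n, hNhG ⟨n, rfl⟩⟩ v hv⟩
  haveI := hirrG
  let ψ : Cfsg.IrrCharacter Gh := ⟨_, CT.isIrrCharacter_character ρ1⟩
  let N1 : Subgroup Gh := Nh.subgroupOf Gh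
  haveI : N1.Normal := Subgroup.Normal.subgroupOf inferInstance Gh
  haveI : Fintype N1 := Fintype.ofFinite _
  let ρ2 : Representation ℂ N1 (Fin d → ℂ) := ρ1.comp N1.subtype
  have hirrN : ρ2.IsIrreducible := by
    obtain ⟨hV, hW⟩ := (CT.isIrreducible_iff τ).mp hirr
    exact (CT.isIrreducible_iff _).mpr
      ⟨hV, fun W h => hW W fun n v hv => h ⟨⟨ι n, hNhG ⟨n, rfl⟩⟩, ⟨n, rfl⟩⟩ v hv⟩
  haveI := hirrN
  let θ1 : Cfsg.IrrCharacter N1 :=
    ⟨_, CT.isIrrCharacter_character ρ2⟩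
  let q : Gh →* H0 := mk.subgroupMap Gh
  have hq : Function.Surjective q := MonoidHom.subgroupMap_surjective mk Gh
  let φ : Cfsg.IrrCharacter Gh := ⟨_, CT.isIrrCharacter_comp q hq η.2⟩
  have hφN : ∀ n : N1, (φ : Gh → ℂ) n = (φ : Gh → ℂ) 1 := fun n => by
    show (η : H0 → ℂ) (q n) = (η : H0 → ℂ) (q 1)
    rw [map_one]
    refine congrArg (η : H0 → ℂ) (Subtype.ext ?_)
    show mk ((n : Gh) : Γh) = 1
    exact (QuotientGroup.eq_one_iff ((n : Gh) : Γh)).mpr n.2
  have hφ1 : Cfsg.classInner (fun n : N1 => (φ : Gh → ℂ) n) (fun _ => (1 : ℂ)) ≠ 0 := by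
    rw [show (fun n : N1 => (φ : Gh → ℂ) n) = (φ : Gh → ℂ) 1 • fun _ : N1 => (1 : ℂ) from
      funext fun n => by simp [hφN n], CT.classInner_smul_left,
      CT.irr_inner_self CT.isIrrCharacter_one, mul_one]
    exact CT.irr_one_ne_zero φ.2
  have hΧ : Cfsg.IsIrrCharacter Gh ((φ : Gh → ℂ) * (ψ : Gh → ℂ)) :=
    CT.isIrr_of_inner_self (CT.isCharacter_mul (CT.isCharacter_of_isIrr φ.2)
      (CT.isCharacter_of_isIrr ψ.2))
      (by rw [CoprimeExt.inner_mul_ext N1 ψ θ1 (fun n => rfl) φ φ hφ1 hφ1, if_pos rfl])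
  set X : Gh → ℂ := (φ : Gh → ℂ) * (ψ : Gh → ℂ) with hX
  -- descend
  let πG : Gh →* G := π.subgroupComap G
  have hπG : Function.Surjective πG := fun g => by
    obtain ⟨x, hx⟩ := hπ g
    exact ⟨⟨x, by show π x ∈ G; rw [hx]; exact g.2⟩, Subtype.ext hx⟩
  have hker : ∀ z ∈ πG.ker, X z = X 1 := by
    intro z hz
    have hz' : (z : Γh) ∈ Z := congrArg Subtype.val (MonoidHom.mem_ker.mp hz)
    have h1 : (η : H0 → ℂ) (q z) = ((lam0 ⟨_, hz'⟩)⁻¹ : ℂˣ) * (η : H0 → ℂ) 1 := by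
      have h2 := hηs (eZ ⟨_, hz'⟩) 1
      rw [mul_one, MonoidHom.comp_apply, MulEquiv.coe_toMonoidHom, MulEquiv.symm_apply_apply,
        MonoidHom.inv_apply] at h2
      rw [← h2]
      rfl
    have h3 : (ψ : Gh → ℂ) z = (lam0 ⟨_, hz'⟩ : ℂ) * (ψ : Gh → ℂ) 1 := by
      show LinearMap.trace ℂ _ (((z : Γh) : Γ × (Module.End ℂ (Fin d → ℂ))ˣ).2 :
        Module.End ℂ (Fin d → ℂ)) = _ * LinearMap.trace ℂ _ _
      rw [hlam0 ⟨_, hz'⟩, CT.coe_scU, map_smul, smul_eq_mul, map_one]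
      rfl
    show (η : H0 → ℂ) (q z) * (ψ : Gh → ℂ) z = (η : H0 → ℂ) (q 1) * (ψ : Gh → ℂ) 1
    rw [h1, h3, map_one, mul_mul_mul_comm, ← Units.val_mul, inv_mul_cancel, Units.val_one,
      one_mul]
  obtain ⟨ξ, hξ, hξX⟩ := CT.exists_quotient_irr hΧ πG.ker hker
  let eG := QuotientGroup.quotientKerEquivOfSurjective πG hπG
  let χ : Cfsg.IrrCharacter G :=
    ⟨_, CT.isIrrCharacter_comp eG.symm.toMonoidHom eG.symm.surjective hξ⟩
  have hχ : ∀ x : Gh, (χ : G → ℂ) (πG x) = X x := fun x => by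
    show ξ (eG.symm (πG x)) = _
    rw [show eG.symm (πG x) = QuotientGroup.mk x from eG.symm_apply_apply (QuotientGroup.mk x)]
    exact hξX x
  refine ⟨χ, ?_, ?_⟩
  · have : (fun n : N => (χ : G → ℂ) ⟨n, hNG n.2⟩) =
        (φ : Gh → ℂ) 1 • (θ : N → ℂ) := funext fun n => by
      have h1 := hχ ⟨ι n, hNhG ⟨n, rfl⟩⟩
      rw [show πG ⟨ι n, hNhG ⟨n, rfl⟩⟩ = ⟨n, hNG n.2⟩ from rfl] at h1
      rw [h1, hX, Pi.mul_apply, Pi.smul_apply, smul_eq_mul, ← hτ]
      congr 1
      exact hφN ⟨⟨ι n, hNhG ⟨n, rfl⟩⟩, ⟨n, rfl⟩⟩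
    rw [this, CT.classInner_smul_left, CT.irr_inner_self θ.2, mul_one]
    exact CT.irr_one_ne_zero φ.2
  · intro x g
    obtain ⟨y, rfl⟩ := hπ x
    obtain ⟨k, rfl⟩ := hπG g
    have h1 : MulAut.conjNormal (π y) (πG k) = πG (MulAut.conjNormal y k) := Subtype.ext (by
      rw [MulAut.conjNormal_apply]
      show π y * π (k : Γh) * (π y)⁻¹ = π ((MulAut.conjNormal y k : Gh) : Γh)
      rw [MulAut.conjNormal_apply, map_mul, map_mul, map_inv])
    rw [h1, hχ, hχ]
    show (η : H0 → ℂ) (q _) * (ψ : Gh → ℂ) _ = (η : H0 → ℂ) (q k) * (ψ : Gh → ℂ) k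
    congr 1
    · rw [← hηi (mk y) (q k)]
      refine congrArg (η : H0 → ℂ) (Subtype.ext ?_)
      rw [MulAut.conjNormal_apply]
      show mk ((MulAut.conjNormal y k : Gh) : Γh) = mk y * mk (k : Γh) * (mk y)⁻¹
      rw [MulAut.conjNormal_apply, map_mul, map_mul, map_inv]
    · show ρ.character ((MulAut.conjNormal y k : Gh) : Γh) = ρ.character (k : Γh)
      rw [MulAut.conjNormal_apply, Representation.char_conj]

end Cfsg.Agent.GlaubAbove
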