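import Cfsg.Agent.Lib.Glauberman.Constituent
import Cfsg.Agent.Lib.Glauberman.Relative
import Cfsg.Agent.Lib.CT.Projective
import Mathlib.GroupTheory.SchurZassenhaus

/-!
# Invariant characters over a linear character of a central subgroup
-/

set_option autoImplicit false
set_option linter.all false

namespace Cfsg.Agent.GlaubAbove

open Cfsg.Agent

universe u

/-- A central element acts by a scalar, read off from a linear constituent. -/
theorem central_mul {G : Type u} [Group G] [Fintype G] (Z : Subgroup G) [Fintype Z] [Z.Normal]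
    (hc : ∀ z ∈ Z, ∀ g : G, g * z = z * g) (lam : Z →* ℂˣ) {χ : G → ℂ}
    (hχ : Cfsg.IsIrrCharacter G χ)
    (h1 : Cfsg.classInner (fun z : Z => χ z) (fun z : Z => (lam z : ℂ)) ≠ 0) (z : Z) (g : G) :
    χ ((z : G) * g) = (lam z : ℂ) * χ g := by
  classical
  have hinv : ∀ x : G, CT.conjFun Z x (fun z : Z => (lam z : ℂ)) = fun z : Z => (lam z : ℂ) := by
    intro x
    rw [CT.conjFun_eq_comp]
    funext y
    have : MulAut.conjNormal x y = y := Subtype.ext (by
      rw [MulAut.conjNormal_apply, hc y y.2 x]; simp)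
    simp [this]
  have hres := CT.restrict_eq_smul_of_invariant Z hχ (CT.isIrrCharacter_lin lam) h1 hinv
  set c0 := Cfsg.classInner (fun z : Z => χ z) (fun z : Z => (lam z : ℂ)) with hc0
  have hz : χ (z : G) = χ 1 * (lam z : ℂ) := by
    have e1 := congrFun hres z
    have e2 := congrFun hres 1
    simp only [Pi.smul_apply, smul_eq_mul, OneMemClass.coe_one, map_one, Units.val_one,
      mul_one] at e1 e2
    rw [e1, e2]
  have hne := CT.irr_one_ne_zero hχ
  obtain ⟨n, ρ, hρ, rfl⟩ := hχ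
  obtain ⟨hV, -⟩ := (CT.isIrreducible_iff ρ).mp hρ
  have hs := CT.eq_scalar_of_commute ρ (ρ (z : G)) fun x => by
    rw [← map_mul, ← map_mul, hc z z.2 x]
  generalize hcdef : LinearMap.trace ℂ _ (ρ (z : G)) / (Module.finrank ℂ (Fin n → ℂ) : ℂ) = c at hs
  have hch : ∀ x, ρ.character ((z : G) * x) = c * ρ.character x := by
    intro x
    rw [Representation.character, Representation.character, map_mul, hs, smul_mul_assoc, ← Module.End.one_eq_id, one_mul,
      map_smul, smul_eq_mul]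
  have h2 := hch 1
  rw [mul_one, hz, mul_comm] at h2
  rw [hch g, mul_right_cancel₀ hne h2]

/-- An invariant character over a linear character of a central subgroup, for coprime solvable
operators. -/
theorem exists_inv_central {B : Type u} [Group B] [Fintype B] (H0 : Subgroup B) [H0.Normal]
    [Fintype H0] (Z : Subgroup B) (hZ0 : Z ≤ H0) (hZc : ∀ z ∈ Z, ∀ b : B, b * z = z * b)
    (hcop : H0.index.Coprime (Z.relIndex H0)) (hsolv : Group.IsSolvable (B ⧸ H0))
    (lam : Z →* ℂˣ) :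
    ∃ η : Cfsg.IrrCharacter H0,
      (∀ (b : B) (h : H0), (η : H0 → ℂ) (MulAut.conjNormal b h) = (η : H0 → ℂ) h) ∧
      ∀ (z : Z) (h : H0),
        (η : H0 → ℂ) (⟨(z : B), hZ0 z.2⟩ * h) = (lam z : ℂ) * (η : H0 → ℂ) h := by
  classical
  set a := Z.relIndex H0 with ha
  -- the part of the centre of order prime to the index
  let Zc : Subgroup B :=
    { carrier := {z | z ∈ Z ∧ ∃ m : ℕ, m.Coprime a ∧ z ^ m = 1}
      one_mem' := ⟨one_mem _, 1, Nat.coprime_one_left a, one_pow 1⟩
      mul_mem' := fun {x y} hx hy => by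
        obtain ⟨hx, m, hm, hxm⟩ := hx
        obtain ⟨hy, k, hk, hyk⟩ := hy
        refine ⟨mul_mem hx hy, m * k, hm.mul_left hk, ?_⟩
        rw [(show Commute x y from hZc y hy x).mul_pow, pow_mul, hxm, mul_comm m k, pow_mul, hyk,
          one_pow, one_pow, one_mul]
      inv_mem' := fun {x} hx => ⟨inv_mem hx.1, hx.2.imp fun m h => ⟨h.1, by
        rw [inv_pow, h.2, inv_one]⟩⟩ }
  have hZcZ : Zc ≤ Z := fun x hx => hx.1
  have hZcH : Zc ≤ H0 := hZcZ.trans hZ0
  haveI : Zc.Normal := ⟨fun x hx g => by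
    rw [hZc x hx.1 g, mul_inv_cancel_right]; exact hx⟩
  -- primes of the two parts
  have hcardZc : ∀ q : ℕ, q.Prime → q ∣ Nat.card Zc → ¬ q ∣ a := by
    intro q hq hqZ hqa
    haveI := Fact.mk hq
    obtain ⟨x, hx⟩ := exists_prime_orderOf_dvd_card' q hqZ
    obtain ⟨-, m, hm, hxm⟩ := x.2
    rw [← Subgroup.orderOf_coe] at hx
    have hqm : q ∣ m := hx ▸ orderOf_dvd_of_pow_eq_one hxm
    exact hq.not_dvd_one (hm ▸ Nat.dvd_gcd hqm hqa)
  let Zc' : Subgroup H0 := Zc.subgroupOf H0
  have hidxc : Zc'.index = Zc.relIndex Z * a := (Subgroup.relIndex_mul_relIndex _ _ _ hZcZ hZ0).symm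
  have hprimes : ∀ q : ℕ, q.Prime → q ∣ Zc'.index → q ∣ a := by
    intro q hq hqi
    rw [hidxc] at hqi
    rcases (Nat.Prime.dvd_mul hq).mp hqi with h | h
    swap
    · exact h
    by_contra hqa
    haveI := Fact.mk hq
    haveI : (Zc.subgroupOf Z).Normal := ⟨fun x hx g => by
      show (g : B) * (x : B) * (g : B)⁻¹ ∈ Zc
      rw [hZc _ x.2 _, mul_inv_cancel_right]; exact hx⟩
    have h' : q ∣ Nat.card (Z ⧸ Zc.subgroupOf Z) := by rw [← Subgroup.index_eq_card]; exact h
    obtain ⟨x, hx⟩ := exists_prime_orderOf_dvd_card' q h'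
    obtain ⟨z, rfl⟩ := QuotientGroup.mk_surjective x
    have hzq : (z : B) ^ q ∈ Zc := by
      have : (QuotientGroup.mk (z ^ q) : Z ⧸ Zc.subgroupOf Z) = 1 := by
        rw [QuotientGroup.mk_pow, ← hx, pow_orderOf_eq_one]
      exact (QuotientGroup.eq_one_iff (z ^ q)).mp this
    obtain ⟨-, m, hm, hzm⟩ := hzq
    have hz : (z : B) ∈ Zc :=
      ⟨z.2, q * m, ((hq.coprime_iff_not_dvd).mpr hqa).mul_left hm, by rw [pow_mul, hzm]⟩
    rw [(QuotientGroup.eq_one_iff z).mpr hz, orderOf_one] at hx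
    exact hq.one_lt.ne hx
  have hcop1 : (Nat.card Zc').Coprime Zc'.index := Nat.coprime_of_dvd fun q hq h1 h2 => by
    rw [Nat.card_congr (Subgroup.subgroupOfEquivOfLe hZcH).toEquiv] at h1
    exact hcardZc q hq h1 (hprimes q hq h2)
  haveI : Zc'.Normal := Subgroup.Normal.subgroupOf inferInstance H0
  obtain ⟨H, hH⟩ := Subgroup.exists_right_complement'_of_coprime hcop1
  have hHidx : Zc'.index = Nat.card H := hH.symm.index_eq_card
  -- the decomposition of the normal subgroup
  have hcomm : ∀ (z : Zc') (h : H0), h * (z : H0) = (z : H0) * h := fun z h =>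
    Subtype.ext (hZc _ (hZcZ z.2) _)
  let mulHom : Zc' × H →* H0 :=
    { toFun := fun p => (p.1 : H0) * (p.2 : H0)
      map_one' := by simp
      map_mul' := fun p q => by
        simp only [Prod.fst_mul, Prod.snd_mul, Subgroup.coe_mul]
        rw [mul_assoc (p.1 : H0), ← mul_assoc (q.1 : H0), ← hcomm q.1 (p.2 : H0)]
        simp only [mul_assoc] }
  let e : Zc' × H ≃* H0 := MulEquiv.ofBijective mulHom hH
  have hmem : ∀ x : H0, x ∈ H ↔ x ^ Nat.card H = 1 := by
    intro x
    refine ⟨fun hx => orderOf_dvd_iff_pow_eq_one.mp (Subgroup.orderOf_dvd_natCard H hx), fun hx => ?_⟩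
    obtain ⟨⟨z, h⟩, rfl⟩ := e.surjective x
    have h1 := hx
    rw [← map_pow, EmbeddingLike.map_eq_one_iff, Prod.ext_iff] at h1
    have h2 : z = 1 := by
      rw [← orderOf_eq_one_iff]
      refine Nat.eq_one_of_dvd_coprimes (hHidx ▸ hcop1) (orderOf_dvd_natCard z) ?_
      exact orderOf_dvd_of_pow_eq_one h1.1
    show ((z : H0) * (h : H0)) ∈ H
    rw [h2, OneMemClass.coe_one, one_mul]
    exact h.2
  let HB : Subgroup B := H.map H0.subtype
  have hHBmem : ∀ x : H0, (x : B) ∈ HB ↔ x ∈ H := fun x =>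
    Subgroup.mem_map_iff_mem H0.subtype_injective
  haveI : HB.Normal := ⟨by
    rintro _ ⟨x, hx, rfl⟩ g
    have hconj : g * (x : B) * g⁻¹ = ((MulAut.conjNormal g x : H0) : B) :=
      (MulAut.conjNormal_apply g x).symm
    show g * (x : B) * g⁻¹ ∈ HB
    rw [hconj, hHBmem, hmem, ← map_pow, (hmem x).mp hx, map_one]⟩
  have hcardHB : Nat.card HB = Zc'.index := by
    rw [hHidx]
    exact (Nat.card_congr (Subgroup.equivMapOfInjective H H0.subtype H0.subtype_injective).toEquiv).symm
  -- the operators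
  let N' : Subgroup (B ⧸ Zc) := H0.map (QuotientGroup.mk' Zc)
  haveI : N'.Normal := Subgroup.Normal.map inferInstance _ (QuotientGroup.mk'_surjective _)
  have hcomap : N'.comap (QuotientGroup.mk' Zc) = H0 := by
    rw [Subgroup.comap_map_eq, QuotientGroup.ker_mk', sup_eq_left.mpr hZcH]
  have hN'idx : N'.index = H0.index := by
    rw [← Subgroup.index_comap_of_surjective N' (QuotientGroup.mk'_surjective Zc), hcomap]
  have hN'card : Nat.card N' = Zc'.index := by
    have h1 := N'.card_mul_index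
    rw [hN'idx, ← Subgroup.index_eq_card, ← Subgroup.relIndex_mul_index hZcH] at h1
    exact Nat.eq_of_mul_eq_mul_right (Nat.pos_of_ne_zero H0.index_ne_zero_of_finite) h1
  have hcop2 : (Nat.card N').Coprime N'.index := by
    rw [hN'card, hN'idx]
    exact Nat.coprime_of_dvd fun q hq h1 h2 =>
      hq.not_dvd_one (hcop ▸ Nat.dvd_gcd h2 (hprimes q hq h1))
  obtain ⟨Q, hQ⟩ := Subgroup.exists_right_complement'_of_coprime hcop2
  have hQcard : Nat.card Q = H0.index := by rw [← hN'idx]; exact hQ.symm.index_eq_card.symm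
  have hQsolv : Group.IsSolvable Q := by
    let f : B →* (B ⧸ Zc) ⧸ N' := (QuotientGroup.mk' N').comp (QuotientGroup.mk' Zc)
    have hf : H0 ≤ f.ker := fun x hx =>
      (QuotientGroup.eq_one_iff _).mpr (Subgroup.mem_map_of_mem _ hx)
    have hfs : Function.Surjective f :=
      (QuotientGroup.mk'_surjective N').comp (QuotientGroup.mk'_surjective Zc)
    haveI := hsolv
    haveI : Group.IsSolvable ((B ⧸ Zc) ⧸ N') :=
      Group.isSolvable_of_surjective (f := QuotientGroup.lift H0 f hf) fun y => by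
        obtain ⟨x, rfl⟩ := hfs y
        exact ⟨QuotientGroup.mk x, rfl⟩
    refine Group.isSolvable_of_isSolvable_injective (f := (QuotientGroup.mk' N').comp Q.subtype) ?_
    rw [injective_iff_map_eq_one]
    intro q hq
    exact Subtype.ext (Subgroup.disjoint_def.mp hQ.disjoint ((QuotientGroup.eq_one_iff _).mp hq) q.2)
  have hker : Zc ≤ (MulAut.conjNormal (H := HB)).ker := fun z hz => by
    rw [MonoidHom.mem_ker]
    refine MulEquiv.ext fun x => Subtype.ext ?_
    rw [MulAut.conjNormal_apply, ← hZc z hz.1 x, mul_inv_cancel_right]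
    rfl
  let act : B ⧸ Zc →* MulAut HB := QuotientGroup.lift Zc _ hker
  haveI : Fintype HB := Fintype.ofFinite _
  let Za : Subgroup HB := Z.subgroupOf HB
  haveI : Za.Normal := ⟨fun x hx g => by
    show (g : B) * (x : B) * (g : B)⁻¹ ∈ Z
    rw [hZc (x : B) hx (g : B), mul_inv_cancel_right]; exact hx⟩
  haveI : Fintype Za := Fintype.ofFinite _
  have hfixZ : ∀ q : B ⧸ Zc, ∀ x : HB, (x : B) ∈ Z → act q x = x := by
    intro q x hx
    induction q using QuotientGroup.induction_on with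
    | _ b =>
      refine Subtype.ext ?_
      show (MulAut.conjNormal b x : HB).1 = _
      rw [MulAut.conjNormal_apply, hZc _ hx, mul_inv_cancel_right]
  let lamA : Za →* ℂˣ := lam.comp
    { toFun := fun x => ⟨((x : HB) : B), x.2⟩
      map_one' := rfl
      map_mul' := fun _ _ => rfl }
  let φ : Q →* MulAut HB := act.comp Q.subtype
  have hNa : ∀ q : Q, ∀ x ∈ Za, φ q x ∈ Za := fun q x hx => by
    rw [show φ q x = x from hfixZ q.1 x hx]; exact hx
  obtain ⟨η0, hη0i, hη0⟩ := Glauberman.exists_inv_over φ hQsolv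
    (by
      rw [hQcard, hcardHB]
      exact Nat.coprime_of_dvd fun q hq h1 h2 =>
        hq.not_dvd_one (hcop ▸ Nat.dvd_gcd h1 (hprimes q hq h2)))
    Za hNa ⟨_, CT.isIrrCharacter_lin lamA⟩ (fun q x => by
      show (lamA _ : ℂ) = (lamA x : ℂ)
      rw [show Glauberman.resN φ Za hNa q x = x from Subtype.ext (hfixZ q.1 x.1 x.2)])
  have hscal := central_mul Za (fun z hz g => Subtype.ext (hZc _ hz _)) lamA η0.2 hη0
  -- invariance under everything
  let T : Subgroup (B ⧸ Zc) :=
    { carrier := {q | ∀ x, (η0 : HB → ℂ) (act q x) = (η0 : HB → ℂ) x}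
      one_mem' := fun x => by rw [map_one]; rfl
      mul_mem' := fun {p q} hp hq x => by rw [map_mul, MulAut.mul_apply, hp, hq]
      inv_mem' := fun {p} hp x => by
        have := hp (act p⁻¹ x)
        rw [← MulAut.mul_apply, ← map_mul, mul_inv_cancel, map_one, MulAut.one_apply] at this
        exact this.symm }
  have hT : T = ⊤ := by
    rw [eq_top_iff, ← hQ.sup_eq_top]
    refine sup_le ?_ fun q hq x => hη0i ⟨q, hq⟩ x
    rintro _ ⟨b, hb, rfl⟩ x
    obtain ⟨⟨z, h⟩, hzh⟩ := e.surjective ⟨b, hb⟩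
    have hzh' : ((z : H0) : B) * ((h : H0) : B) = b := congrArg Subtype.val hzh
    let hb' : HB := ⟨((h : H0) : B), (hHBmem _).mpr h.2⟩
    have : act (QuotientGroup.mk' Zc b) x = hb' * x * hb'⁻¹ := by
      refine Subtype.ext ?_
      show (MulAut.conjNormal b x : HB).1 = _
      rw [MulAut.conjNormal_apply, ← hzh']
      show _ = ((h : H0) : B) * (x : B) * ((h : H0) : B)⁻¹
      have hc : ∀ y : B, y * ((z : H0) : B) = ((z : H0) : B) * y := hZc _ (hZcZ z.2)
      rw [← hc ((h : H0) : B)]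
      simp only [mul_inv_rev, mul_assoc]
      rw [← mul_assoc _ (x : B), ← hc (x : B)]
      simp [mul_assoc]
    rw [this]
    exact (CT.isClassFunction_isConj (CT.isClassFunction_of_isIrr η0.2)
      (isConj_iff.mpr ⟨hb', rfl⟩)).symm
  -- the character of the whole subgroup
  let toHB : H →* HB :=
    { toFun := fun h => ⟨((h : H0) : B), (hHBmem _).mpr h.2⟩
      map_one' := rfl
      map_mul' := fun _ _ => rfl }
  let p : H0 →* HB := toHB.comp ((MonoidHom.snd Zc' H).comp e.symm.toMonoidHom)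
  have hps : Function.Surjective p := by
    rintro ⟨y, x, hx, rfl⟩
    refine ⟨e (1, ⟨x, hx⟩), Subtype.ext ?_⟩
    simp [p, toHB]
  let toZ : Zc' →* Z :=
    { toFun := fun z => ⟨((z : H0) : B), hZcZ z.2⟩
      map_one' := rfl
      map_mul' := fun _ _ => rfl }
  let l : H0 →* ℂˣ := lam.comp (toZ.comp ((MonoidHom.fst Zc' H).comp e.symm.toMonoidHom))
  refine ⟨⟨_, Glauberman.isIrr_twist (CT.isIrrCharacter_comp p hps η0.2) l⟩, ?_, ?_⟩
  · intro b h
    obtain ⟨⟨z, x⟩, rfl⟩ := e.surjective h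
    have hx' : MulAut.conjNormal b (x : H0) ∈ H := by
      rw [hmem, ← map_pow, (hmem _).mp x.2, map_one]
    have hz' : MulAut.conjNormal b (z : H0) = (z : H0) := Subtype.ext (by
      rw [MulAut.conjNormal_apply, hZc ((z : H0) : B) (hZcZ z.2), mul_inv_cancel_right])
    have he : MulAut.conjNormal b (e (z, x)) = e (z, ⟨_, hx'⟩) := by
      show MulAut.conjNormal b ((z : H0) * (x : H0)) = (z : H0) * _
      rw [map_mul, hz']
    show (l _ : ℂ) * (η0 : HB → ℂ) (p _) = (l _ : ℂ) * (η0 : HB → ℂ) (p _)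
    rw [he]
    congr 1
    · simp [l]
    have := (hT ▸ Subgroup.mem_top (QuotientGroup.mk' Zc b) : QuotientGroup.mk' Zc b ∈ T)
      (p (e (z, x)))
    rw [← this]
    refine congrArg (η0 : HB → ℂ) (Subtype.ext ?_)
    show _ = (MulAut.conjNormal b (p (e (z, x))) : HB).1
    rw [MulAut.conjNormal_apply]
    simp [p, toHB, MulAut.conjNormal_apply]
  · intro z h
    have hpz : ((p ⟨(z : B), hZ0 z.2⟩ : HB) : B) ∈ Z := by
      obtain ⟨⟨z1, x1⟩, h1⟩ := e.surjective ⟨(z : B), hZ0 z.2⟩
      have h2 : ((z1 : H0) : B) * ((x1 : H0) : B) = (z : B) := congrArg Subtype.val h1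
      rw [← h1]
      simp only [p, toHB, MonoidHom.comp_apply, MulEquiv.coe_toMonoidHom,
        MulEquiv.symm_apply_apply, MonoidHom.coe_snd, MonoidHom.coe_mk, OneHom.coe_mk]
      have : ((x1 : H0) : B) = ((z1 : H0) : B)⁻¹ * (z : B) := by rw [← h2, inv_mul_cancel_left]
      rw [this]
      exact mul_mem (inv_mem (hZcZ z1.2)) z.2
    show (l _ : ℂ) * (η0 : HB → ℂ) (p _) = _ * ((l h : ℂ) * (η0 : HB → ℂ) (p h))
    rw [map_mul p, map_mul l, Units.val_mul, hscal ⟨p ⟨(z : B), hZ0 z.2⟩, hpz⟩ (p h)]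
    have hl : l ⟨(z : B), hZ0 z.2⟩ * lamA ⟨p ⟨(z : B), hZ0 z.2⟩, hpz⟩ = lam z := by
      show lam _ * lam _ = lam z
      rw [← map_mul]
      congr 1
      refine Subtype.ext ?_
      show (((e.symm ⟨(z : B), hZ0 z.2⟩).1 : H0) : B) *
        (((e.symm ⟨(z : B), hZ0 z.2⟩).2 : H0) : B) = z
      exact congrArg Subtype.val (e.apply_symm_apply ⟨(z : B), hZ0 z.2⟩)
    rw [← hl, Units.val_mul]
    ring

end Cfsg.Agent.GlaubAbove
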